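import Mathlib

/-!
The model permutation group on the projective line over the field with nine elements, in
coordinates, and the finite check identifying the swapping involution.
-/

set_option autoImplicit false

namespace CfsgLib.SimpleOrders.ThreeSixty

/-- Coordinates of the affine points. -/
abbrev Vec : Type := ZMod 3 × ZMod 3

/-- The ten points. -/
abbrev Pt : Type := Option Vec

/-- Multiplication by a fixed square root of `-1`. -/
def rot (v : Vec) : Vec := (-v.2, v.1)

/-- The inverse of `rot`. -/
def rotInv (v : Vec) : Vec := (v.2, -v.1)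

/-- `rot` as a permutation of the points. -/
def rotPerm : Equiv.Perm Pt :=
  Equiv.optionCongr ⟨rot, rotInv, by decide, by decide⟩

/-- A translation. -/
def shift (e : Vec) : Equiv.Perm Pt := Equiv.optionCongr (Equiv.addRight e)

/-- The map exchanging `none` and `0` and turning `rot` into `σ`, from its values at `(1,0)` and
`(1,1)`. -/
def cand (σ : Vec → Vec) (c c' : Vec) : Pt → Pt
  | none => some 0
  | some v =>
    if v = 0 then none
    else if v = (1, 0) then some c
    else if v = (0, 1) then some (σ c)
    else if v = (2, 0) then some (σ (σ c))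
    else if v = (0, 2) then some (σ (σ (σ c)))
    else if v = (1, 1) then some c'
    else if v = (2, 1) then some (σ c')
    else if v = (2, 2) then some (σ (σ c'))
    else some (σ (σ (σ c')))

/-- The choice of `σ`. -/
def pick (b : Bool) : Vec → Vec := if b then rotInv else rot

/-- `t ↦ 1/t`. -/
def swapPerm : Equiv.Perm Pt :=
  ⟨cand rotInv (1, 0) (2, 1), cand rotInv (1, 0) (2, 1), by decide +kernel, by decide +kernel⟩

/-- The model group. -/
def model : Subgroup (Equiv.Perm Pt) := Subgroup.closure {shift (1, 0), rotPerm, swapPerm}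

/-- An affine map. -/
def aff (e : Vec) (k : Fin 4) : Pt → Pt := fun p => shift e (rotPerm^[k.val] p)

set_option synthInstance.maxSize 4000 in
set_option synthInstance.maxHeartbeats 200000 in
theorem cand_spec (b : Bool) (c c' : Vec) (h1 : c ≠ 0) (h2 : c' ≠ 0)
    (hinj : ∀ p q : Pt, cand (pick b) c c' p = cand (pick b) c c' q → p = q)
    (htest : ∀ d : Vec, cand (pick b) c c' (some d) = some (0, 2) → ∃ e : Vec, ∃ k : Fin 4,
      ∀ p : Pt, cand (pick b) c c' (shift (0, 1) (cand (pick b) c c'
        (shift d (cand (pick b) c c' p)))) = aff e k p) :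
    ∃ j : Fin 4, ∀ p : Pt, rotPerm^[j.val] (cand (pick b) c c' p) = swapPerm p := by
  revert b c c'
  decide +kernel

theorem vec_ne : ((1, 0) : Vec) ≠ 0 ∧ ((1, 1) : Vec) ≠ 0 := by decide

theorem rot_vals : rot (1, 0) = (0, 1) ∧ rot (0, 1) = (2, 0) ∧ rot (2, 0) = (0, 2) ∧
    rot (1, 1) = (2, 1) ∧ rot (2, 1) = (2, 2) ∧ rot (2, 2) = (1, 2) := by decide

theorem shift_test : shift (0, 1) (some (0, 2)) = some (0 : Vec) := by decide

theorem shift_some (e v : Vec) : shift e (some v) = some (v + e) := rfl

theorem shift_none (e : Vec) : shift e none = none := rfl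

theorem rotPerm_some (v : Vec) : rotPerm (some v) = some (rot v) := rfl

theorem rotPerm_none : rotPerm none = none := rfl

end CfsgLib.SimpleOrders.ThreeSixty
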