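import Cfsg.Agent.SimpleOrders.SylowAction
import Cfsg.Agent.SimpleOrders.ThreeSixtyModel
import Mathlib

/-!
A simple group of order 360 acts on its ten Sylow 3-subgroups as the model permutation group.
-/

set_option autoImplicit false

namespace CfsgLib.SimpleOrders.ThreeSixty

open scoped Pointwise

/-- An even involution moves a multiple of four points. -/
theorem four_dvd_support {α : Type*} [Fintype α] [DecidableEq α] {σ : Equiv.Perm α}
    (h2 : σ * σ = 1) (hs : Equiv.Perm.sign σ = 1) : 4 ∣ σ.support.card := by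
  obtain ⟨n, hn⟩ : ∃ n, σ.cycleType = Multiset.replicate n 2 := by
    refine ⟨σ.cycleType.card, Multiset.eq_replicate.mpr ⟨rfl, fun m hm => ?_⟩⟩
    have h1 := Equiv.Perm.two_le_of_mem_cycleType hm
    have h3 : m ∣ 2 := (Equiv.Perm.dvd_of_mem_cycleType hm).trans
      (orderOf_dvd_iff_pow_eq_one.mpr (by rw [pow_two]; exact h2))
    have := Nat.le_of_dvd two_pos h3
    omega
  have hsum := σ.sum_cycleType
  rw [hn, Multiset.sum_replicate, smul_eq_mul] at hsum
  rw [Equiv.Perm.sign_of_cycleType, hn, Multiset.sum_replicate, Multiset.card_replicate,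
    smul_eq_mul] at hs
  rw [← hsum]
  have heven : Even (n * 2 + n) := by
    by_contra hodd
    rw [(Nat.not_even_iff_odd.mp hodd).neg_one_pow] at hs
    exact absurd hs (by decide)
  obtain ⟨k, hk⟩ := heven
  exact ⟨n / 2, by omega⟩

variable {G : Type*} [Group G] [Finite G] [IsSimpleGroup G]

theorem not_comm (h : Nat.card G = 360) : ¬ IsMulCommutative G :=
  SmallSimple.not_comm_of_card_not_prime (by rw [h]; norm_num)

theorem small_index_false (hG : ¬ IsMulCommutative G) (h : Nat.card G = 360) {H : Subgroup G}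
    (hH : H ≠ ⊤) : 6 ≤ H.index := by
  by_contra hlt
  have h1 := Nat.le_of_dvd (Nat.factorial_pos _) (SmallSimple.card_dvd_factorial_index hG H hH)
  have h2 := Nat.factorial_le (show H.index ≤ 5 by omega)
  rw [h, show Nat.factorial 5 = 120 by rfl] at *
  omega

theorem card_sylow_three (h : Nat.card G = 360) [Fact (Nat.Prime 3)] :
    Nat.card (Sylow 3 G) = 10 ∧ ∀ P : Sylow 3 G, Nat.card (P : Subgroup G) = 9 ∧
      Nat.card (Subgroup.normalizer ((P : Subgroup G) : Set G)) = 36 := by
  have hG := not_comm h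
  have hd : 3 ∣ Nat.card G := by rw [h]; norm_num
  obtain ⟨hdiv, hmod, hall⟩ :=
    SmallSimple.card_sylow_constraints (G := G) 3 40 (k := 2) (by rw [h]; norm_num) (by norm_num)
  have hn : Nat.card (Sylow 3 G) = 10 := by
    have h1 := SmallSimple.card_sylow_ne_one hG 3 hd
    have h4 : Nat.card (Sylow 3 G) ≠ 4 := fun h4 => by
      have := Nat.le_of_dvd (Nat.factorial_pos _) (SmallSimple.card_dvd_factorial_sylow hG 3 hd)
      rw [h, h4, show Nat.factorial 4 = 24 by rfl] at this
      omega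
    have h40 : Nat.card (Sylow 3 G) ≠ 40 := fun h40 => by
      obtain ⟨P⟩ : Nonempty (Sylow 3 G) := inferInstance
      obtain ⟨hP, hN⟩ := hall P
      rw [h40] at hN
      haveI : IsMulCommutative (P : Subgroup G) :=
        IsPGroup.isMulCommutative_of_card_eq_prime_sq hP
      apply SmallSimple.not_normalizer_le_centralizer hG 3 hd P
      rw [← Subgroup.eq_of_le_of_card_ge (Subgroup.le_normalizer (H := (P : Subgroup G)))
        (by rw [hP]; omega)]
      intro a ha b hb
      exact congrArg Subtype.val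
        ((IsMulCommutative.is_comm (M := (P : Subgroup G))).comm ⟨b, hb⟩ ⟨a, ha⟩)
    have hle := Nat.le_of_dvd (by norm_num) hdiv
    interval_cases hc : Nat.card (Sylow 3 G) <;> omega
  refine ⟨hn, fun P => ?_⟩
  obtain ⟨hP, hN⟩ := hall P
  rw [hn] at hN
  exact ⟨by rw [hP]; norm_num, by omega⟩

/-- Distinct Sylow 3-subgroups meet trivially. -/
theorem inter_trivial (h : Nat.card G = 360) [Fact (Nat.Prime 3)] {P Q : Sylow 3 G} (hPQ : P ≠ Q)
    {u : G} (huP : u ∈ (P : Subgroup G)) (huQ : u ∈ (Q : Subgroup G)) : u = 1 := by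
  by_contra hu
  have hG := not_comm h
  obtain ⟨-, hall⟩ := card_sylow_three h
  set C := Subgroup.centralizer ({u} : Set G) with hC
  have hab : ∀ R : Sylow 3 G, u ∈ (R : Subgroup G) → (R : Subgroup G) ≤ C := by
    intro R hR r hr
    haveI : IsMulCommutative (R : Subgroup G) :=
      IsPGroup.isMulCommutative_of_card_eq_prime_sq (p := 3) ((hall R).1.trans (by norm_num))
    exact Subgroup.mem_centralizer_singleton_iff.mpr (congrArg Subtype.val
      ((IsMulCommutative.is_comm (M := (R : Subgroup G))).comm ⟨r, hr⟩ ⟨u, hR⟩))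
  have hPC := hab P huP
  have hQC := hab Q huQ
  have hCtop : C ≠ ⊤ := by
    intro htop
    have hmem : u ∈ Subgroup.center G := Subgroup.mem_center_iff.mpr fun g =>
      Subgroup.mem_centralizer_singleton_iff.mp (htop.symm ▸ Subgroup.mem_top g : g ∈ C)
    rcases (Subgroup.center G).normal_of_characteristic.eq_bot_or_eq_top with e | e
    · exact hu (Subgroup.mem_bot.mp (e ▸ hmem))
    · exact hG ⟨⟨fun a b => Subgroup.mem_center_iff.mp (e ▸ Subgroup.mem_top b) a⟩⟩
  have h6 := small_index_false hG h hCtop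
  have hmul := C.card_mul_index
  rw [h] at hmul
  have h9 : 9 ∣ Nat.card C := (hall P).1 ▸ Subgroup.card_dvd_of_le hPC
  have hnn : ¬ (C ≤ Subgroup.normalizer ((P : Subgroup G) : Set G)) := fun hle => hPQ.symm (by
    refine Sylow.ext (Subgroup.eq_of_le_of_card_ge (fun q hq => ?_) (by rw [(hall P).1, (hall Q).1]))
    have h1 : Subgroup.zpowers q ≤ Subgroup.normalizer ((P : Subgroup G) : Set G) :=
      Subgroup.zpowers_le.mpr (hle (hQC hq))
    have hp : IsPGroup 3 (Subgroup.zpowers q ⊔ (P : Subgroup G) : Subgroup G) :=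
      IsPGroup.to_sup_of_normal_right' (Q.2.to_le (Subgroup.zpowers_le.mpr hq)) P.2 h1
    rw [← P.3 hp le_sup_right]
    exact Subgroup.mem_sup_left (Subgroup.mem_zpowers q))
  set P' := P.subtype hPC with hP'
  have hP'card : Nat.card (P' : Subgroup C) = 9 := by
    rw [hP', Sylow.coe_subtype, Nat.card_congr (Subgroup.subgroupOfEquivOfLe hPC).toEquiv, (hall P).1]
  have hnot : ¬ (P' : Subgroup C).Normal := fun hnorm => hnn fun c hc => by
    refine Subgroup.mem_normalizer_iff.mpr fun v => ⟨fun hv => ?_, fun hv => ?_⟩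
    · exact hnorm.conj_mem ⟨v, hPC hv⟩ hv ⟨c, hc⟩
    · have hv' := hnorm.conj_mem ⟨c * v * c⁻¹, hPC hv⟩ hv ⟨c⁻¹, C.inv_mem hc⟩
      have : ((⟨c⁻¹, C.inv_mem hc⟩ * ⟨c * v * c⁻¹, hPC hv⟩ * ⟨c⁻¹, C.inv_mem hc⟩⁻¹ : C) : G) = v := by
        simp only [Subgroup.coe_mul, Subgroup.coe_inv]; group
      rw [← this]
      exact hv'
  have hs1 : Nat.card (Sylow 3 C) ≠ 1 := fun h1 => by
    haveI : Subsingleton (Sylow 3 C) := (Nat.card_eq_one_iff_unique.1 h1).1
    exact hnot P'.normal_of_subsingleton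
  have hsN := Sylow.card_eq_index_normalizer P'
  have hNC : Nat.card (Subgroup.normalizer ((P' : Subgroup C) : Set C)) * Nat.card (Sylow 3 C) =
      Nat.card C := by
    rw [hsN]; exact Subgroup.card_mul_index _
  have hsmod : Nat.card (Sylow 3 C) % 3 = 1 := by
    have := card_sylow_modEq_one 3 C
    rwa [Nat.ModEq] at this
  have hdvdN : 9 ∣ Nat.card (Subgroup.normalizer ((P' : Subgroup C) : Set C)) :=
    hP'card ▸ Subgroup.card_dvd_of_le Subgroup.le_normalizer
  obtain ⟨a, ha⟩ := h9
  obtain ⟨b, hb⟩ := hdvdN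
  rw [ha, hb] at hNC
  rw [ha] at hmul
  have hab' : b * Nat.card (Sylow 3 C) = a := by nlinarith
  have ha40 : a * C.index = 40 := by nlinarith
  have hale : a ≤ 6 := by nlinarith
  have ha5 : a ∣ 40 := ⟨_, ha40.symm⟩
  have hb0 : b ≠ 0 := by
    rintro rfl
    rw [zero_mul] at hab'
    rw [← hab', zero_mul] at ha40
    omega
  have hspos : 0 < Nat.card (Sylow 3 C) := Nat.card_pos
  have hsa : Nat.card (Sylow 3 C) ≤ a := by
    rw [← hab']; exact Nat.le_mul_of_pos_left _ (Nat.pos_of_ne_zero hb0)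
  have hs6 : Nat.card (Sylow 3 C) ≤ 6 := hsa.trans hale
  obtain ⟨ha4, hb1⟩ : a = 4 ∧ b = 1 := by
    interval_cases hc : Nat.card (Sylow 3 C) <;> interval_cases a <;> omega
  -- transfer inside the centraliser
  haveI hcomm : IsMulCommutative (P' : Subgroup C) :=
    IsPGroup.isMulCommutative_of_card_eq_prime_sq (p := 3) (hP'card.trans (by norm_num))
  have hNle : Subgroup.normalizer ((P' : Subgroup C) : Set C) ≤
      Subgroup.centralizer ((P' : Subgroup C) : Set C) := by
    rw [← Subgroup.eq_of_le_of_card_ge (Subgroup.le_normalizer (H := (P' : Subgroup C)))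
      (by rw [hP'card, hb, hb1])]
    intro a ha b hb
    exact congrArg Subtype.val
      ((IsMulCommutative.is_comm (M := (P' : Subgroup C))).comm ⟨b, hb⟩ ⟨a, ha⟩)
  have hK := (MonoidHom.ker_transferSylow_isComplement' P' hNle).card_mul_card
  rw [hP'card, ha, ha4] at hK
  haveI hKn := (MonoidHom.transferSylow P' hNle).normal_ker
  set T := (MonoidHom.transferSylow P' hNle).ker.map C.subtype with hT
  have hT4 : Nat.card T = 4 := by
    rw [hT, Subgroup.card_map_of_injective (f := C.subtype) Subtype.val_injective]; omega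
  have hCT : C ≤ Subgroup.normalizer (T : Set G) := by
    intro c hc
    refine Subgroup.le_normalizer_map C.subtype ⟨⟨c, hc⟩, ?_, rfl⟩
    rw [Subgroup.normalizer_eq_top]; trivial
  haveI : Fact (Nat.Prime 2) := ⟨Nat.prime_two⟩
  obtain ⟨S, hS⟩ := (IsPGroup.of_card (p := 2) (n := 2) (G := T) (by rw [hT4]; rfl)).exists_le_sylow
  have hS8 : Nat.card (S : Subgroup G) = 8 := by
    obtain ⟨-, -, hall2⟩ :=
      SmallSimple.card_sylow_constraints (G := G) 2 45 (k := 3) (by rw [h]; norm_num) (by norm_num)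
    exact (hall2 S).1
  have hST : (S : Subgroup G) ≤ Subgroup.normalizer (T : Set G) := by
    have hidx : (T.subgroupOf (S : Subgroup G)).index = 2 := by
      have := (T.subgroupOf (S : Subgroup G)).card_mul_index
      rw [Nat.card_congr (Subgroup.subgroupOfEquivOfLe hS).toEquiv, hT4, hS8] at this
      omega
    haveI := Subgroup.normal_of_index_eq_two hidx
    intro s hs
    refine Subgroup.mem_normalizer_iff.mpr fun v => ⟨fun hv => ?_, fun hv => ?_⟩
    · exact (inferInstance : (T.subgroupOf (S : Subgroup G)).Normal).conj_mem ⟨v, hS hv⟩ hv ⟨s, hs⟩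
    · have hv' := (inferInstance : (T.subgroupOf (S : Subgroup G)).Normal).conj_mem
        ⟨s * v * s⁻¹, hS hv⟩ hv ⟨s⁻¹, Subgroup.inv_mem _ hs⟩
      have : ((⟨s⁻¹, Subgroup.inv_mem _ hs⟩ * ⟨s * v * s⁻¹, hS hv⟩ *
          ⟨s⁻¹, Subgroup.inv_mem _ hs⟩⁻¹ : (S : Subgroup G)) : G) = v := by
        simp only [Subgroup.coe_mul, Subgroup.coe_inv]; group
      rw [← this]
      exact hv'
  set M := Subgroup.normalizer (T : Set G) with hM
  have h72 : 72 ∣ Nat.card M :=
    Nat.Coprime.mul_dvd_of_dvd_of_dvd (show Nat.Coprime 9 8 by decide)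
      ((hall P).1 ▸ Subgroup.card_dvd_of_le (hPC.trans hCT)) (hS8 ▸ Subgroup.card_dvd_of_le hST)
  have hMtop : M ≠ ⊤ := by
    intro e
    rcases (Subgroup.normalizer_eq_top_iff.mp e).eq_bot_or_eq_top with e' | e'
    · rw [e', Subgroup.card_bot] at hT4; omega
    · rw [e', Subgroup.card_top, h] at hT4; omega
  have hM6 := small_index_false hG h hMtop
  have hMmul := M.card_mul_index
  rw [h] at hMmul
  obtain ⟨m, hm⟩ := h72
  rw [hm] at hMmul
  have h5 : M.index * m = 5 := by linarith
  have := Nat.le_of_dvd (by norm_num) (Dvd.intro m h5)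
  omega

set_option maxHeartbeats 1000000 in
theorem nonempty_equiv_model (h : Nat.card G = 360) : Nonempty (G ≃* ↥model) := by
  classical
  haveI : Fact (Nat.Prime 3) := ⟨Nat.prime_three⟩
  have hG := not_comm h
  have hd3 : 3 ∣ Nat.card G := by rw [h]; norm_num
  obtain ⟨hn, hall⟩ := card_sylow_three h
  haveI := Fintype.ofFinite (Sylow 3 G)
  haveI : Nontrivial (Sylow 3 G) := Finite.one_lt_card_iff_nontrivial.mp (by omega)
  have hfree : ∀ (P Q : Sylow 3 G), Q ≠ P → ∀ u ∈ (P : Subgroup G), u • Q = Q → u = 1 :=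
    fun P Q hne u hu hfix => inter_trivial h hne.symm hu (mem_of_smul_eq hu hfix)
  have hPfix : ∀ (P : Sylow 3 G), ∀ u ∈ (P : Subgroup G), u • P = P := fun P u hu =>
    (smul_eq_self_iff u P).mpr (Subgroup.le_normalizer hu)
  have hreg : ∀ (P Q R : Sylow 3 G), Q ≠ P → R ≠ P → ∃ u ∈ (P : Subgroup G), u • Q = R := by
    intro P Q R hQ hR
    let f : ↥(P : Subgroup G) → {S : Sylow 3 G // S ≠ P} := fun u => ⟨(u : G) • Q, fun e =>
      hQ (smul_left_cancel (u : G) (e.trans (hPfix P u u.2).symm))⟩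
    have hinj : Function.Injective f := by
      intro a b hab
      have hab' : (a : G) • Q = (b : G) • Q := congrArg Subtype.val hab
      have := hfree P Q hQ ((b : G)⁻¹ * a) (Subgroup.mul_mem _ (Subgroup.inv_mem _ b.2) a.2)
        (by rw [mul_smul, hab', inv_smul_smul])
      exact Subtype.ext (inv_mul_eq_one.mp this).symm
    have hbij : Function.Bijective f := hinj.bijective_of_nat_card_le (by
      rw [(hall P).1, Nat.card_eq_fintype_card, Fintype.card_subtype_compl, Fintype.card_subtype_eq,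
        ← Nat.card_eq_fintype_card, hn])
    obtain ⟨u, hu⟩ := hbij.2 ⟨R, hR⟩
    exact ⟨u, u.2, congrArg Subtype.val hu⟩
  obtain ⟨P⟩ : Nonempty (Sylow 3 G) := inferInstance
  obtain ⟨Q₀, hQ₀⟩ := exists_ne P
  set N := Subgroup.normalizer ((P : Subgroup G) : Set G) with hN
  set R := N ⊓ MulAction.stabilizer G Q₀ with hR
  haveI hPab : IsMulCommutative (P : Subgroup G) :=
    IsPGroup.isMulCommutative_of_card_eq_prime_sq (p := 3) ((hall P).1.trans (by norm_num))
  have hPc : ∀ a ∈ (P : Subgroup G), ∀ b ∈ (P : Subgroup G), Commute a b := fun a ha b hb =>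
    congrArg Subtype.val ((IsMulCommutative.is_comm (M := (P : Subgroup G))).comm ⟨a, ha⟩ ⟨b, hb⟩)
  have hmemR : ∀ g : G, g ∈ R ↔ g • P = P ∧ g • Q₀ = Q₀ := fun g => by
    rw [hR, Subgroup.mem_inf, smul_eq_self_iff, MulAction.mem_stabilizer_iff]
  -- the two-point stabiliser has order four
  have hR4 : Nat.card R = 4 := by
    let f : ↥(P : Subgroup G) × R → N := fun p => ⟨(p.1 : G) * p.2,
      N.mul_mem (Subgroup.le_normalizer p.1.2) p.2.2.1⟩
    have hf : Function.Bijective f := by
      refine ⟨fun p q e => ?_, fun g => ?_⟩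
      · have e' : (p.1 : G) * p.2 = q.1 * q.2 := congrArg Subtype.val e
        have h1 : (q.1 : G)⁻¹ * p.1 = (q.2 : G) * (p.2 : G)⁻¹ := by
          calc (q.1 : G)⁻¹ * p.1 = (q.1 : G)⁻¹ * ((p.1 : G) * p.2) * (p.2 : G)⁻¹ := by group
            _ = (q.2 : G) * (p.2 : G)⁻¹ := by rw [e']; group
        have h2 := hfree P Q₀ hQ₀ _ (Subgroup.mul_mem _ (Subgroup.inv_mem _ q.1.2) p.1.2)
          (by rw [h1]; exact ((hmemR _).mp (R.mul_mem q.2.2 (R.inv_mem p.2.2))).2)
        have e1 : p.1 = q.1 := Subtype.ext (inv_mul_eq_one.mp h2).symm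
        rw [e1] at e'
        exact Prod.ext e1 (Subtype.ext (mul_left_cancel e'))
      · have hgP : (g : G) • P = P := (smul_eq_self_iff _ P).mpr g.2
        obtain ⟨u, hu, huQ⟩ := hreg P Q₀ ((g : G) • Q₀) hQ₀
          (fun e => hQ₀ (smul_left_cancel (g : G) (e.trans hgP.symm)))
        refine ⟨(⟨u, hu⟩, ⟨u⁻¹ * g, (hmemR _).mpr ⟨?_, ?_⟩⟩), Subtype.ext (mul_inv_cancel_left u _)⟩
        · rw [mul_smul, hgP, inv_smul_eq_iff, hPfix P u hu]
        · rw [mul_smul, ← huQ, inv_smul_smul]
    have := Nat.card_congr (Equiv.ofBijective f hf)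
    rw [Nat.card_prod, (hall P).1, (hall P).2] at this
    omega
  have hRN : ∀ r ∈ R, ∀ u ∈ (P : Subgroup G), r * u * r⁻¹ ∈ (P : Subgroup G) := fun r hr u hu =>
    (Subgroup.mem_normalizer_iff.mp hr.1 u).mp hu
  have hRtriv : ∀ r ∈ R, (∀ u ∈ (P : Subgroup G), r * u * r⁻¹ = u) → r = 1 := by
    intro r hr hc
    refine toPermHom_injective hG hd3 (Equiv.ext fun S => ?_)
    rw [map_one]
    change r • S = S
    by_cases hS : S = P
    · rw [hS]; exact ((hmemR r).mp hr).1
    · obtain ⟨u, hu, rfl⟩ := hreg P Q₀ S hQ₀ hS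
      rw [← mul_smul, show r * u = u * r from mul_inv_eq_iff_eq_mul.mp (hc u hu), mul_smul,
        ((hmemR r).mp hr).2]
  -- every permutation is even
  have heven : ∀ g : G, Equiv.Perm.sign (MulAction.toPermHom G (Sylow 3 G) g) = 1 := by
    intro g
    let σ : G →* ℤˣ := Equiv.Perm.sign.comp (MulAction.toPermHom G (Sylow 3 G))
    rcases σ.normal_ker.eq_bot_or_eq_top with e | e
    · exfalso
      have := Nat.card_le_card_of_injective σ ((MonoidHom.ker_eq_bot_iff σ).mp e)
      rw [h, Nat.card_eq_fintype_card (α := ℤˣ), Fintype.card_units_int] at this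
      omega
    · exact MonoidHom.mem_ker.mp (e.symm ▸ Subgroup.mem_top g : g ∈ σ.ker)
  have hinv : ∀ r ∈ R, r * r = 1 → r ≠ 1 → ∀ u ∈ (P : Subgroup G), r * u * r⁻¹ = u⁻¹ := by
    intro r hr hr2 hr1
    set F := (P : Subgroup G) ⊓ Subgroup.centralizer ({r} : Set G) with hF
    have hFd : Nat.card F ∣ 3 ^ 2 := by
      rw [show (3 : ℕ) ^ 2 = Nat.card (P : Subgroup G) by rw [(hall P).1]; norm_num]
      exact Subgroup.card_dvd_of_le inf_le_left
    haveI := Fintype.ofFinite F
    set σ := MulAction.toPermHom G (Sylow 3 G) r with hσ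
    have hfix : Finset.univ \ σ.support =
        insert P ((Finset.univ : Finset F).image fun u : F => (u : G) • Q₀) := by
      ext S
      simp only [Finset.mem_sdiff, Finset.mem_univ, Equiv.Perm.mem_support, not_not, true_and,
        Finset.mem_insert, Finset.mem_image]
      change r • S = S ↔ _
      constructor
      · intro hS
        by_cases hSP : S = P
        · exact .inl hSP
        · obtain ⟨u, hu, rfl⟩ := hreg P Q₀ S hQ₀ hSP
          refine .inr ⟨⟨u, hu, ?_⟩, rfl⟩
          have h3 : (u⁻¹ * (r * u * r⁻¹)) • Q₀ = Q₀ := by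
            have : r⁻¹ • Q₀ = Q₀ := inv_smul_eq_iff.mpr ((hmemR r).mp hr).2.symm
            rw [mul_smul, mul_smul, this, mul_smul, hS, inv_smul_smul]
          have h4 := hfree P Q₀ hQ₀ _
            (Subgroup.mul_mem _ (Subgroup.inv_mem _ hu) (hRN r hr u hu)) h3
          exact Subgroup.mem_centralizer_singleton_iff.mpr
            (mul_inv_eq_iff_eq_mul.mp (inv_mul_eq_one.mp h4).symm).symm
      · rintro (rfl | ⟨u, rfl⟩)
        · exact ((hmemR r).mp hr).1
        · rw [← mul_smul, ← Subgroup.mem_centralizer_singleton_iff.mp u.2.2, mul_smul,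
            ((hmemR r).mp hr).2]
    have hcardfix : (Finset.univ \ σ.support).card = 1 + Nat.card F := by
      rw [hfix, Finset.card_insert_of_notMem, Finset.card_image_of_injective, Finset.card_univ,
        ← Nat.card_eq_fintype_card, add_comm]
      · intro a b hab
        have := hfree P Q₀ hQ₀ ((b : G)⁻¹ * a)
          (Subgroup.mul_mem _ (Subgroup.inv_mem _ b.2.1) a.2.1)
          (by rw [mul_smul, show (a : G) • Q₀ = (b : G) • Q₀ from hab, inv_smul_smul])
        exact Subtype.ext (inv_mul_eq_one.mp this).symm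
      · simp only [Finset.mem_image, Finset.mem_univ, true_and, not_exists]
        exact fun u hu => hQ₀ (smul_left_cancel (u : G) (hu.trans (hPfix P u u.2.1).symm))
    rw [Finset.card_sdiff_of_subset (Finset.subset_univ _), Finset.card_univ,
      ← Nat.card_eq_fintype_card, hn] at hcardfix
    have h4 := four_dvd_support (σ := σ) (by rw [hσ, ← map_mul, hr2, map_one]) (heven r)
    have hne : σ.support.card ≠ 0 := by
      rw [Ne, Finset.card_eq_zero, Equiv.Perm.support_eq_empty_iff]
      exact fun e => hr1 (toPermHom_injective hG hd3 (e.trans (map_one _).symm))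
    have hle : σ.support.card ≤ 10 := by
      rw [← hn, Nat.card_eq_fintype_card]; exact Finset.card_le_univ _
    obtain ⟨i, hi, hi'⟩ := (Nat.dvd_prime_pow Nat.prime_three).mp hFd
    have hF1 : Nat.card F = 1 := by interval_cases i <;> omega
    intro u hu
    let f : ↥(P : Subgroup G) → ↥(P : Subgroup G) := fun b => ⟨b.1⁻¹ * (r * b.1 * r⁻¹),
      Subgroup.mul_mem _ (Subgroup.inv_mem _ b.2) (hRN r hr b b.2)⟩
    have hf : Function.Injective f := by
      intro b c hbc
      have h' : b.1⁻¹ * (r * b.1 * r⁻¹) = c.1⁻¹ * (r * c.1 * r⁻¹) := congrArg Subtype.val hbc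
      have hmem : c.1 * b.1⁻¹ ∈ F := by
        refine ⟨Subgroup.mul_mem _ c.2 (Subgroup.inv_mem _ b.2),
          Subgroup.mem_centralizer_singleton_iff.mpr (mul_inv_eq_iff_eq_mul.mp ?_).symm⟩
        rw [show r * (c.1 * b.1⁻¹) * r⁻¹ =
          c.1 * (c.1⁻¹ * (r * c.1 * r⁻¹)) * (b.1⁻¹ * (r * b.1 * r⁻¹))⁻¹ * b.1⁻¹ by group, ← h']
        group
      rw [Subgroup.eq_bot_of_card_eq F hF1, Subgroup.mem_bot] at hmem
      exact Subtype.ext (mul_inv_eq_one.mp hmem).symm
    obtain ⟨b, hb⟩ := Finite.injective_iff_surjective.mp hf ⟨u, hu⟩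
    have hu' : u = b.1⁻¹ * (r * b.1 * r⁻¹) := (congrArg Subtype.val hb).symm
    have hrinv : r⁻¹ = r := inv_eq_of_mul_eq_one_right hr2
    rw [hu']
    simp only [mul_inv_rev, inv_inv, hrinv, ← mul_assoc]
    rw [show r * b.1⁻¹ * r * b.1 * r * r = r * b.1⁻¹ * r * b.1 * (r * r) by group, hr2, mul_one]
  have huniq : ∀ r ∈ R, ∀ r' ∈ R, r * r = 1 → r ≠ 1 → r' * r' = 1 → r' ≠ 1 → r = r' := by
    intro r hr r' hr' h1 h2 h3 h4
    have : r * r' = 1 := hRtriv _ (R.mul_mem hr hr') fun u hu => by
      calc r * r' * u * (r * r')⁻¹ = r * (r' * u * r'⁻¹) * r⁻¹ := by group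
        _ = u := by rw [hinv r' hr' h3 h4 u hu, hinv r hr h1 h2 _ (Subgroup.inv_mem _ hu), inv_inv]
    rw [mul_eq_one_iff_eq_inv.mp this, inv_eq_of_mul_eq_one_right h3]
  obtain ⟨y, hyR, hy⟩ : ∃ y ∈ R, y * y ≠ 1 := by
    by_contra hcon
    push Not at hcon
    haveI := Fintype.ofFinite R
    obtain ⟨r, hr⟩ : ∃ r : R, r ≠ 1 :=
      Fintype.exists_ne_of_one_lt_card (by rw [← Nat.card_eq_fintype_card, hR4]; norm_num) 1
    have hsub : (Finset.univ : Finset R) ⊆ {1, r} := by
      intro s _
      by_cases hs : s = 1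
      · simp [hs]
      · have := huniq s s.2 r r.2 (hcon s s.2) (fun e => hs (Subtype.ext e)) (hcon r r.2)
          (fun e => hr (Subtype.ext e))
        simp [Subtype.ext this]
    have := (Finset.card_le_card hsub).trans Finset.card_le_two
    rw [Finset.card_univ, ← Nat.card_eq_fintype_card, hR4] at this
    omega
  have hy4 : y * y * (y * y) = 1 := by
    have h1 := pow_card_eq_one' (x := (⟨y, hyR⟩ : R))
    rw [hR4] at h1
    calc y * y * (y * y) = y ^ 4 := by simp only [pow_succ, pow_zero, one_mul, mul_assoc]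
      _ = 1 := congrArg Subtype.val h1
  have hyinv : ∀ u ∈ (P : Subgroup G), y * y * u * (y * y)⁻¹ = u⁻¹ :=
    hinv (y * y) (R.mul_mem hyR hyR) hy4 hy
  have hyord : orderOf y = 4 := by
    have := orderOf_eq_prime_pow (x := y) (p := 2) (n := 1)
      (by rwa [pow_one, pow_two]) (by rw [show (2 : ℕ) ^ (1 + 1) = 2 + 2 by rfl, pow_add, pow_two]; exact hy4)
    rw [this]; rfl
  have hRy : R = Subgroup.zpowers y := (Subgroup.eq_of_le_of_card_ge (Subgroup.zpowers_le.mpr hyR)
    (by rw [Nat.card_zpowers, hyord, hR4])).symm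
  -- coordinates on `P`
  obtain ⟨⟨x, hxP⟩, hxo⟩ := exists_prime_orderOf_dvd_card' (G := (P : Subgroup G)) 3
    (by rw [(hall P).1]; norm_num)
  rw [Subgroup.orderOf_mk] at hxo
  obtain ⟨x', hx'⟩ : ∃ x' : G, x' = y * x * y⁻¹ := ⟨_, rfl⟩
  have hx'P : x' ∈ (P : Subgroup G) := hx' ▸ hRN y hyR x hxP
  have hx'o : orderOf x' = 3 := by
    rw [hx', ← hxo]
    exact orderOf_injective (MulAut.conj y).toMonoidHom (MulAut.conj y).injective x
  let pz : G → ZMod 3 → G := fun g a => g ^ a.val
  have hpz_add : ∀ g : G, orderOf g = 3 → ∀ a b : ZMod 3, pz g (a + b) = pz g a * pz g b := by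
    intro g hg a b
    change g ^ (a + b).val = g ^ a.val * g ^ b.val
    rw [← pow_add, ZMod.val_add, ← pow_mod_orderOf g (a.val + b.val), hg]
  let pv : Vec → G := fun v => pz x v.1 * pz x' v.2
  have hpv_mem : ∀ v, pv v ∈ (P : Subgroup G) := fun v =>
    Subgroup.mul_mem _ (pow_mem hxP _) (pow_mem hx'P _)
  have hpv_add : ∀ v w, pv (v + w) = pv v * pv w := by
    intro v w
    change pz x (v.1 + w.1) * pz x' (v.2 + w.2) = _
    rw [hpz_add x hxo, hpz_add x' hx'o]
    have hc : Commute (pz x w.1) (pz x' v.2) := hPc _ (pow_mem hxP _) _ (pow_mem hx'P _)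
    exact hc.mul_mul_mul_comm _ _
  have hpv0 : pv 0 = 1 := by simp [pv, pz]
  have hx1 : x ≠ 1 := by rintro rfl; rw [orderOf_one] at hxo; omega
  have hx3 : x ^ 3 = 1 := by rw [← hxo]; exact pow_orderOf_eq_one x
  have hx'inv : y * x' * y⁻¹ = x⁻¹ := by
    rw [hx', ← hyinv x hxP]; group
  have hnot : ∀ a : ℕ, x' ≠ x ^ a := by
    intro a ha
    have h1 : y * x' * y⁻¹ = x ^ (a * a) := by
      rw [ha, ← conj_pow, ← hx', ha, ← pow_mul]
    rw [hx'inv] at h1
    have h2 : x ^ (a * a + 1) = 1 := by rw [pow_succ, ← h1, inv_mul_cancel]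
    have h3 := orderOf_dvd_of_pow_eq_one h2
    rw [hxo] at h3
    have h4 : a % 3 < 3 := Nat.mod_lt _ (by norm_num)
    have h5 : (a * a + 1) % 3 = ((a % 3) * (a % 3) + 1) % 3 := by
      simp [Nat.add_mod, Nat.mul_mod]
    have h6 := Nat.mod_eq_zero_of_dvd h3
    interval_cases hm : a % 3 <;> omega
  have hpvinj : ∀ v, pv v = 1 → v = 0 := by
    rintro ⟨a, b⟩ hv
    change x ^ a.val * x' ^ b.val = 1 at hv
    have hb : b.val = 0 := by
      by_contra hb
      have hb3 := b.val_lt
      have hk : (b.val * b.val) % 3 = 1 := by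
        rcases (show b.val = 1 ∨ b.val = 2 by omega) with e | e <;> rw [e]
      apply hnot (a.val * 2 * b.val)
      have h3 : x' ^ b.val = x ^ (a.val * 2) := by
        rw [eq_inv_of_mul_eq_one_right hv, inv_eq_iff_mul_eq_one, ← pow_add,
          show a.val + a.val * 2 = 3 * a.val by ring, pow_mul, hx3, one_pow]
      calc x' = x' ^ ((b.val * b.val) % 3) := by rw [hk, pow_one]
        _ = x' ^ (b.val * b.val) := by rw [← pow_mod_orderOf x' (b.val * b.val), hx'o]
        _ = x ^ (a.val * 2 * b.val) := by rw [pow_mul, h3, ← pow_mul]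
    rw [hb, pow_zero, mul_one] at hv
    have ha := orderOf_dvd_of_pow_eq_one hv
    rw [hxo] at ha
    exact Prod.ext ((ZMod.val_eq_zero a).mp (Nat.eq_zero_of_dvd_of_lt ha a.val_lt))
      ((ZMod.val_eq_zero b).mp hb)
  have hrot : ∀ v, y * pv v * y⁻¹ = pv (rot v) := by
    rintro ⟨a, b⟩
    change y * (x ^ a.val * x' ^ b.val) * y⁻¹ = x ^ (-b).val * x' ^ a.val
    rw [show y * (x ^ a.val * x' ^ b.val) * y⁻¹ =
      (y * x ^ a.val * y⁻¹) * (y * x' ^ b.val * y⁻¹) by group, ← conj_pow, ← conj_pow, ← hx',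
      hx'inv]
    rw [(hPc _ (pow_mem hx'P _) _ (pow_mem (Subgroup.inv_mem _ hxP) _)).eq]
    congr 1
    rw [inv_pow, inv_eq_iff_mul_eq_one, ← pow_add]
    have h' : ((b.val + (-b).val : ℕ) : ZMod 3) = 0 := by
      push_cast; simp
    obtain ⟨m, hm⟩ := (CharP.cast_eq_zero_iff (ZMod 3) 3 _).mp h'
    rw [hm, pow_mul, hx3, one_pow]
  have hpv10 : pv (1, 0) = x := by simp [pv, pz, ZMod.val_one]
  have hpv_x : ∀ v, pv v ∈ Subgroup.closure ({x, x'} : Set G) := fun v =>
    Subgroup.mul_mem _ (Subgroup.pow_mem _ (Subgroup.subset_closure (by simp)) _)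
      (Subgroup.pow_mem _ (Subgroup.subset_closure (by simp)) _)
  clear_value pv
  let toS : Pt → Sylow 3 G := fun o => o.elim P fun v => pv v • Q₀
  have hne : ∀ v, pv v • Q₀ ≠ P := fun v hv =>
    hQ₀ (smul_left_cancel (pv v) (hv.trans (hPfix P _ (hpv_mem v)).symm))
  have hinj : Function.Injective toS := by
    rintro (_ | v) (_ | w) hij
    · rfl
    · exact absurd hij.symm (hne w)
    · exact absurd hij (hne v)
    · have h0 := hfree P Q₀ hQ₀ (pv (-w + v)) (hpv_mem _) (by
        rw [hpv_add, mul_smul, show pv v • Q₀ = pv w • Q₀ from hij, ← mul_smul, ← hpv_add,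
          neg_add_cancel, hpv0, one_smul])
      rw [show v = w from (neg_add_eq_zero.mp (hpvinj _ h0)).symm]
  have hbij : Function.Bijective toS := (Fintype.bijective_iff_injective_and_card _).mpr
    ⟨hinj, by rw [← Nat.card_eq_fintype_card, ← Nat.card_eq_fintype_card, hn]; simp⟩
  let E : Pt ≃ Sylow 3 G := Equiv.ofBijective toS hbij
  let ψ : G →* Equiv.Perm Pt :=
    (E.symm.permCongrHom : _ ≃* _).toMonoidHom.comp (MulAction.toPermHom G (Sylow 3 G))
  have hψinj : Function.Injective ψ :=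
    E.symm.permCongrHom.injective.comp (toPermHom_injective hG hd3)
  have hψ : ∀ (g : G) (o o' : Pt), g • toS o = toS o' → ψ g o = o' := fun g o o' hgo => by
    change E.symm (g • E o) = o'
    rw [Equiv.symm_apply_eq]
    exact hgo
  have hψ' : ∀ (g : G) (o : Pt), g • toS o = toS (ψ g o) := fun g o => by
    change g • E o = E (E.symm (g • E o))
    rw [Equiv.apply_symm_apply]
  have hX : ψ x = shift (1, 0) := Equiv.ext fun o => hψ x o _ (by
    rcases o with _ | v
    · exact hPfix P x hxP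
    · rw [shift_some]
      change x • pv v • Q₀ = pv (v + (1, 0)) • Q₀
      rw [← mul_smul, add_comm v, hpv_add, hpv10])
  have hY : ψ y = rotPerm := Equiv.ext fun o => hψ y o _ (by
    rcases o with _ | v
    · exact ((hmemR y).mp hyR).1
    · rw [rotPerm_some]
      change y • pv v • Q₀ = pv (rot v) • Q₀
      rw [← mul_smul, show y * pv v = pv (rot v) * y from mul_inv_eq_iff_eq_mul.mp (hrot v),
        mul_smul, ((hmemR y).mp hyR).2])
  -- a swap
  obtain ⟨g, hgP, hgQ⟩ : ∃ g : G, g • P = Q₀ ∧ g • Q₀ = P := by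
    obtain ⟨g₀, hg₀⟩ := MulAction.exists_smul_eq G P Q₀
    have hne' : g₀ • Q₀ ≠ Q₀ := fun e => hQ₀ (smul_left_cancel g₀ (hg₀.trans e.symm)).symm
    obtain ⟨u, hu, huQ⟩ := hreg Q₀ (g₀ • Q₀) P hne' hQ₀.symm
    exact ⟨u * g₀, by rw [mul_smul, hg₀, hPfix Q₀ u hu], by rw [mul_smul, huQ]⟩
  have hgR : g * y * g⁻¹ ∈ R := by
    have h1 : g⁻¹ • P = Q₀ := inv_smul_eq_iff.mpr hgQ.symm
    have h2 : g⁻¹ • Q₀ = P := inv_smul_eq_iff.mpr hgP.symm
    refine (hmemR _).mpr ⟨?_, ?_⟩
    · rw [mul_smul, mul_smul, h1, ((hmemR y).mp hyR).2, hgQ]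
    · rw [mul_smul, mul_smul, h2, ((hmemR y).mp hyR).1, hgP]
  obtain ⟨bσ, hbσ⟩ : ∃ bσ : Bool, ∀ v : Vec, ψ g (some (rot v)) = Option.map (pick bσ) (ψ g (some v)) := by
    obtain ⟨i, hi⟩ := Subgroup.mem_zpowers_iff.mp (hRy ▸ hgR)
    have hmod : g * y * g⁻¹ = y ^ (i % 4) := by
      rw [← hi, show (4 : ℤ) = (orderOf y : ℤ) by rw [hyord]; rfl, zpow_mod_orderOf]
    have hcomm : ψ g * rotPerm = rotPerm ^ (i % 4) * ψ g := by
      rw [← hY, ← map_zpow, ← map_mul, ← map_mul, mul_inv_eq_iff_eq_mul.mp hmod]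
    have hy1 : y ≠ 1 := by rintro rfl; simp at hy
    have h0 : i % 4 ≠ 0 := fun e => hy1 (conj_eq_one_iff.mp (by rw [hmod, e, zpow_zero]))
    have h2 : i % 4 ≠ 2 := fun e => hy (by
      have h' : g * (y * y) * g⁻¹ = 1 := by
        calc g * (y * y) * g⁻¹ = (g * y * g⁻¹) * (g * y * g⁻¹) := by group
          _ = y * y * (y * y) := by rw [hmod, e, zpow_two]
          _ = 1 := hy4
      exact conj_eq_one_iff.mp h')
    rcases (show i % 4 = 1 ∨ i % 4 = 3 by omega) with e | e
    · refine ⟨false, fun v => ?_⟩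
      have h3 := Equiv.congr_fun hcomm (some v)
      rw [e, zpow_one] at h3
      exact h3
    · refine ⟨true, fun v => ?_⟩
      have h3 := Equiv.congr_fun hcomm (some v)
      rw [e, show rotPerm ^ (3 : ℤ) = rotPerm.symm by
        rw [show (3 : ℤ) = ((3 : ℕ) : ℤ) by rfl, zpow_natCast]; decide +kernel] at h3
      exact h3
  set W : Pt → Pt := fun p => ψ g p with hW
  have hWn : W none = some 0 := hψ g none (some 0) (by
    change g • P = pv 0 • Q₀; rw [hpv0, one_smul, hgP])
  have hW0 : W (some 0) = none := hψ g (some 0) none (by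
    change g • pv 0 • Q₀ = P; rw [hpv0, one_smul, hgQ])
  have hWinj : Function.Injective W := (ψ g).injective
  have hWne : ∀ v : Vec, v ≠ 0 → ∃ c : Vec, c ≠ 0 ∧ W (some v) = some c := by
    intro v hv
    rcases hc : W (some v) with _ | c
    · exact absurd (Option.some.inj (hWinj (hc.trans hW0.symm))) hv
    · refine ⟨c, fun e => ?_, rfl⟩
      exact absurd (hWinj (hc.trans ((congrArg some e).trans hWn.symm))) (by simp)
  obtain ⟨c, hc0, hc⟩ := hWne (1, 0) vec_ne.1
  obtain ⟨c', hc'0, hc'⟩ := hWne (1, 1) vec_ne.2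
  have hWcand : ∀ p, W p = cand (pick bσ) c c' p := by
    have step : ∀ v v' e : Vec, rot v = v' → W (some v) = some e →
        W (some v') = some (pick bσ e) := by
      intro v v' e hr hv
      have := hbσ v
      rw [hr, show ψ g (some v) = some e from hv] at this
      exact this
    have s1 := step _ (0, 1) _ rot_vals.1 hc
    have s2 := step _ (2, 0) _ rot_vals.2.1 s1
    have s3 := step _ (0, 2) _ rot_vals.2.2.1 s2
    have t1 := step _ (2, 1) _ rot_vals.2.2.2.1 hc'
    have t2 := step _ (2, 2) _ rot_vals.2.2.2.2.1 t1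
    have t3 := step _ (1, 2) _ rot_vals.2.2.2.2.2 t2
    rintro (_ | ⟨a, b⟩)
    · exact hWn
    · fin_cases a <;> fin_cases b
      exacts [hW0, s1, s3, hc, hc', t3, s2, t1, t2]
  obtain ⟨j, hj⟩ := cand_spec bσ c c' hc0 hc'0
    (fun p q hpq => hWinj (by rw [hWcand, hWcand, hpq])) (by
      intro d hd
      set k := g * pv (0, 1) * g * pv d * g with hk
      have hact : ∀ p : Pt, ψ k p = W (shift (0, 1) (W (shift d (W p)))) := by
        have hs : ∀ e : Vec, ψ (pv e) = shift e := fun e => Equiv.ext fun o => hψ _ o _ (by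
          rcases o with _ | v
          · exact hPfix P _ (hpv_mem e)
          · rw [shift_some]
            change pv e • pv v • Q₀ = pv (v + e) • Q₀
            rw [← mul_smul, ← hpv_add, add_comm])
        intro p
        rw [hk]
        simp only [map_mul, Equiv.Perm.mul_apply, hs]
        rfl
      have hknone : ψ k none = none := by
        rw [hact, hWn,
          show shift d (some 0) = some d from congrArg some (zero_add d), hWcand (some d), hd,
          show shift (0, 1) (some (0, 2)) = some (0 : Vec) from shift_test, hW0]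
      have hkP : k • P = P := by
        have := hψ' k none
        rw [hknone] at this
        exact this
      rcases hke : ψ k (some 0) with _ | e
      · exact absurd ((ψ k).injective (hke.trans hknone.symm)) (by simp)
      · have hkQ : k • Q₀ = pv e • Q₀ := by
          have := hψ' k (some 0)
          rw [hke] at this
          change k • pv 0 • Q₀ = pv e • Q₀ at this
          rwa [hpv0, one_smul] at this
        have hr : (pv e)⁻¹ * k ∈ R := (hmemR _).mpr
          ⟨by rw [mul_smul, hkP, inv_smul_eq_iff, hPfix P _ (hpv_mem e)],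
           by rw [mul_smul, hkQ, inv_smul_smul]⟩
        obtain ⟨i, hi⟩ := Subgroup.mem_zpowers_iff.mp (hRy ▸ hr)
        have hi' : k = pv e * y ^ ((i % 4).toNat) := by
          have hnn : ((i % 4).toNat : ℤ) = i % 4 := Int.toNat_of_nonneg (Int.emod_nonneg _ (by norm_num))
          rw [← zpow_natCast, hnn, show (4 : ℤ) = (orderOf y : ℤ) by rw [hyord]; rfl,
            zpow_mod_orderOf, hi, mul_inv_cancel_left]
        refine ⟨e, ⟨(i % 4).toNat, by omega⟩, fun p => ?_⟩
        simp only [← hWcand]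
        rw [← hact, hi', map_mul, map_pow, hY, Equiv.Perm.mul_apply]
        have hs : ψ (pv e) = shift e := Equiv.ext fun o => hψ _ o _ (by
          rcases o with _ | v
          · exact hPfix P _ (hpv_mem e)
          · rw [shift_some]
            change pv e • pv v • Q₀ = pv (v + e) • Q₀
            rw [← mul_smul, ← hpv_add, add_comm])
        rw [hs, aff, Equiv.Perm.coe_pow])
  have hWj : ψ (y ^ j.val * g) = swapPerm := Equiv.ext fun p => by
    rw [map_mul, map_pow, hY, Equiv.Perm.mul_apply, ← hj p, ← hWcand, Equiv.Perm.coe_pow]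
  set w := y ^ j.val * g with hw
  have hgen : Subgroup.closure ({x, y, w} : Set G) = ⊤ := by
    set H := Subgroup.closure ({x, y, w} : Set G) with hH
    by_contra hne
    have hxH : x ∈ H := Subgroup.subset_closure (by simp)
    have hyH : y ∈ H := Subgroup.subset_closure (by simp)
    have hwH : w ∈ H := Subgroup.subset_closure (by simp)
    have hPH : (P : Subgroup G) ≤ H := by
      intro u hu
      have hsurj : Function.Surjective fun v : Vec => (⟨pv v, hpv_mem v⟩ : (P : Subgroup G)) := by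
        refine (Function.Injective.bijective_of_nat_card_le (fun v v' e => ?_) ?_).2
        · have e' : pv v = pv v' := congrArg Subtype.val e
          exact Option.some.inj (@hinj (some v) (some v') (by
            change pv v • Q₀ = pv v' • Q₀; rw [e']))
        · rw [(hall P).1]; simp
      obtain ⟨v, hv⟩ := hsurj ⟨u, hu⟩
      have hv' : pv v = u := congrArg Subtype.val hv
      rw [← hv']
      refine (Subgroup.closure_le H).mpr ?_ (hpv_x v)
      rintro a (rfl | rfl)
      · exact hxH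
      · exact hx' ▸ H.mul_mem (H.mul_mem hyH hxH) (H.inv_mem hyH)
    have hNH : N ≤ H := by
      intro a ha
      have haP : a • P = P := (smul_eq_self_iff _ P).mpr ha
      obtain ⟨u, hu, huQ⟩ := hreg P Q₀ (a • Q₀) hQ₀
        (fun e => hQ₀ (smul_left_cancel a (e.trans haP.symm)))
      have hr : u⁻¹ * a ∈ Subgroup.zpowers y := hRy ▸ (hmemR _).mpr
        ⟨by rw [mul_smul, haP, inv_smul_eq_iff, hPfix P u hu],
          by rw [mul_smul, ← huQ, inv_smul_smul]⟩
      have := H.mul_mem (hPH hu) (Subgroup.zpowers_le.mpr hyH hr)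
      rwa [mul_inv_cancel_left] at this
    have hwN : w ∉ N := fun hwN => by
      have h1 : ψ w none = none := hψ w none none ((smul_eq_self_iff _ P).mpr hwN)
      rw [hWj] at h1
      exact absurd h1 (by decide +kernel)
    have h36 : 36 ∣ Nat.card H := (hall P).2 ▸ Subgroup.card_dvd_of_le hNH
    have hlt : Nat.card H ≠ 36 := fun e =>
      hwN ((Subgroup.eq_of_le_of_card_ge hNH (by rw [e, (hall P).2])).symm ▸ hwH)
    have h6 := small_index_false hG h hne
    have hmul := H.card_mul_index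
    rw [h] at hmul
    obtain ⟨m, hm⟩ := h36
    rw [hm] at hmul hlt
    have hm2 : 2 ≤ m := by
      have : m ≠ 0 := by rintro rfl; simp at hmul
      omega
    nlinarith
  exact nonempty_mulEquiv_closure ψ hψinj _ hgen _ (by
    rw [Set.image_insert_eq, Set.image_insert_eq, Set.image_singleton, hX, hY, hWj])

end CfsgLib.SimpleOrders.ThreeSixty
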